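import Mathlib.RingTheory.MvPolynomial.WeightedHomogeneous
import Mathlib.Algebra.DirectSum.Decomposition
import Mathlib.Algebra.GradedMulAction
import Mathlib.LinearAlgebra.Matrix.Charpoly.LinearMap
import Mathlib.LinearAlgebra.Matrix.Adjugate
import Mathlib.RingTheory.Ideal.Quotient.Operations
import Mathlib.Algebra.Module.Projective
import Mathlib.Algebra.Module.Torsion.Basic

/-!
# Multigraded projective modules over polynomial rings are locally graded free
-/

set_option autoImplicit false
set_option linter.style.haveILetI false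

noncomputable section

universe u v

open MvPolynomial DirectSum

namespace Groth.Agent.H23GradedFree

section Algebra

variable {A : Type u} [CommRing A] {P : Type v} [AddCommGroup P] [Module A P]

/-- Nakayama: if some element outside a prime `Q` maps `P` into `Q • P`, something outside `Q` kills `P`. -/
theorem exists_notMem_annihilator [Module.Finite A P] (Q : Ideal A) [Q.IsPrime] (r : A) (hr : r ∉ Q)
    (h : ∀ x : P, r • x ∈ Q • (⊤ : Submodule A P)) : ∃ g : A, g ∉ Q ∧ ∀ x : P, g • x = 0 := by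
  obtain ⟨F, hF, -, hco, hev⟩ := LinearMap.exists_monic_and_natDegree_eq_and_coeff_mem_pow_and_aeval_eq_zero A
    (r • (LinearMap.id : Module.End A P)) Q (by rintro _ ⟨x, rfl⟩; exact h x)
  refine ⟨F.eval r, fun hm => ?_, fun x => ?_⟩
  · rw [Polynomial.eval_eq_sum_range, Finset.sum_range_succ, hF.coeff_natDegree, one_mul] at hm
    have h1 : ∑ x ∈ Finset.range F.natDegree, F.coeff x * r ^ x ∈ Q := by
      refine Q.sum_mem fun k hk => Q.mul_mem_right _ ?_
      exact Ideal.pow_le_self (by have := Finset.mem_range.1 hk; omega) (hco k)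
    exact hr (‹Q.IsPrime›.mem_of_pow_mem _ ((Q.add_mem_iff_right h1).1 hm))
  · have := LinearMap.congr_fun hev x
    rwa [show (r • (LinearMap.id : Module.End A P)) = algebraMap A (Module.End A P) r from
      (Algebra.algebraMap_eq_smul_one r).symm, Polynomial.aeval_algebraMap_apply_eq_algebraMap_eval,
      Module.algebraMap_end_apply] at this

/-- Choice of generators at a prime. -/
theorem exists_basis_at_prime [Module.Finite A P] [Module.Projective A P] (Q : Ideal A) [Q.IsPrime]
    (G : Finset P) (hG : Submodule.span A (G : Set P) = ⊤) :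
    ∃ (m : ℕ) (f : Fin m → P), (∀ i, f i ∈ G) ∧
      (∃ g : A, g ∉ Q ∧ ∀ q : P, g • q ∈ Submodule.span A (Set.range f)) ∧
      (∃ g : A, g ∉ Q ∧ ∀ c : Fin m → A, ∑ i, c i • f i = 0 → ∀ i, g * c i = 0) := by
  classical
  let π : P →ₗ[A] P ⧸ Q • (⊤ : Submodule A P) := Submodule.mkQ _
  let v : ↥(G : Set P) → P ⧸ Q • (⊤ : Submodule A P) := fun x => π (x : P)
  letI : Module (A ⧸ Q) (P ⧸ Q • (⊤ : Submodule A P)) := inferInstance
  obtain ⟨s, hs, hmax⟩ := exists_maximal_linearIndepOn (R := A ⧸ Q) v
  have hcomp : ∀ x : ↥(G : Set P), ∃ a : A, a ∉ Q ∧ a • v x ∈ Submodule.span A (v '' s) := by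
    intro x
    by_cases hx : x ∈ s
    · exact ⟨1, fun h => ‹Q.IsPrime›.ne_top ((Q.eq_top_iff_one).2 h), by
        rw [one_smul]; exact Submodule.subset_span ⟨x, hx, rfl⟩⟩
    obtain ⟨a, ha, hmem⟩ := hmax x hx
    obtain ⟨a, rfl⟩ := Ideal.Quotient.mk_surjective a
    refine ⟨a, fun h => ha (Ideal.Quotient.eq_zero_iff_mem.2 h), ?_⟩
    have h2 := Submodule.restrictScalars_mem A _ _ |>.2 hmem
    rw [Submodule.restrictScalars_span A (A ⧸ Q) Ideal.Quotient.mk_surjective] at h2
    exact h2
  choose a haQ ha using hcomp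
  let m := Fintype.card s
  let e : Fin m ≃ s := (Fintype.equivFin s).symm
  let f : Fin m → P := fun i => ((e i : ↥(G : Set P)) : P)
  have hli : LinearIndependent (A ⧸ Q) (fun i => π (f i)) := hs.comp _ e.injective
  refine ⟨m, f, fun i => (e i : ↥(G : Set P)).2, ?_⟩
  let S := Submodule.span A (Set.range f)
  -- surjectivity
  have hsurj : ∃ g : A, g ∉ Q ∧ ∀ q : P, g • q ∈ S := by
    let r := ∏ x, a x
    have hr : r ∉ Q := fun h => by
      obtain ⟨x, -, hx⟩ := (Ideal.IsPrime.prod_mem_iff).1 h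
      exact haQ x hx
    have hgen : ∀ q : P, r • q ∈ S ⊔ Q • ⊤ := by
      intro q
      have hle : Submodule.span A (G : Set P) ≤ (S ⊔ Q • ⊤).comap (r • LinearMap.id) := by
        refine Submodule.span_le.2 fun x hx => ?_
        show r • x ∈ S ⊔ Q • ⊤
        have h1 : π (r • x) ∈ S.map π := by
          rw [map_smul, show r = (∏ y ∈ Finset.univ.erase (⟨x, hx⟩ : ↥(G : Set P)), a y) * a ⟨x, hx⟩ from
            (Finset.prod_erase_mul _ _ (Finset.mem_univ _)).symm, mul_smul]
          refine Submodule.smul_mem _ _ ?_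
          refine Submodule.span_le.2 ?_ (ha ⟨x, hx⟩)
          rintro _ ⟨y, hy, rfl⟩
          exact ⟨y, Submodule.subset_span ⟨e.symm ⟨y, hy⟩, by simp [f]⟩, rfl⟩
        rw [← Submodule.mem_comap, Submodule.comap_map_eq, Submodule.ker_mkQ] at h1
        exact h1
      exact hle (hG ▸ Submodule.mem_top)
    obtain ⟨g, hg, hkill⟩ := exists_notMem_annihilator (P := P ⧸ S) Q r hr fun x => by
      obtain ⟨q, rfl⟩ := Submodule.Quotient.mk_surjective _ x
      obtain ⟨y, hy, z, hz, he⟩ := Submodule.mem_sup.1 (hgen q)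
      rw [← Submodule.Quotient.mk_smul, ← he, Submodule.Quotient.mk_add, (Submodule.Quotient.mk_eq_zero S).2 hy,
        zero_add]
      have h3 : S.mkQ z ∈ (Q • (⊤ : Submodule A P)).map S.mkQ := ⟨z, hz, rfl⟩
      rw [Submodule.map_smul''] at h3
      exact Submodule.smul_mono le_rfl le_top h3
    exact ⟨g, hg, fun q => (Submodule.Quotient.mk_eq_zero S).1 (by rw [Submodule.Quotient.mk_smul, hkill])⟩
  refine ⟨hsurj, ?_⟩
  obtain ⟨g, hg, hgS⟩ := hsurj
  let φ : (Fin m → A) →ₗ[A] P := Fintype.linearCombination A f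
  have hφS : LinearMap.range φ = S := Fintype.range_linearCombination A f
  let ψ : P →ₗ[A] LinearMap.range φ := (g • LinearMap.id).codRestrict _ fun q => hφS.symm ▸ hgS q
  obtain ⟨σ, hσ⟩ := Module.projective_lifting_property φ.rangeRestrict ψ φ.surjective_rangeRestrict
  have hσ' : ∀ q, φ (σ q) = g • q := fun q => congrArg Subtype.val (LinearMap.congr_fun hσ q)
  let M : Matrix (Fin m) (Fin m) A := LinearMap.toMatrix' (σ ∘ₗ φ)
  refine ⟨M.det, fun hdet => ?_, fun c hc i => ?_⟩
  · have hcong : M.map (Ideal.Quotient.mk Q) = Matrix.diagonal fun _ => Ideal.Quotient.mk Q g := by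
      ext i j
      let c : Fin m → A := (σ ∘ₗ φ) (Pi.single j 1) - g • Pi.single j 1
      have hc0 : φ c = 0 := by
        show φ (σ (φ (Pi.single j 1)) - g • Pi.single j 1) = 0
        rw [map_sub, map_smul, hσ', sub_self]
      have h1 : ∑ k, Ideal.Quotient.mk Q (c k) • π (f k) = 0 := by
        have : π (φ c) = 0 := by rw [hc0, map_zero]
        rw [show φ c = ∑ k, c k • f k from Fintype.linearCombination_apply A f c, map_sum] at this
        simp only [map_smul] at this
        exact this
      have h2 := Fintype.linearIndependent_iff.1 hli _ h1 i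
      simp only [c, Pi.sub_apply, Pi.smul_apply, map_sub, sub_eq_zero, smul_eq_mul] at h2
      rw [Matrix.map_apply, show M i j = (σ ∘ₗ φ) (Pi.single j 1) i from by
        simp [M, LinearMap.toMatrix'_apply, Pi.single_apply], h2]
      rcases eq_or_ne i j with rfl | hij
      · simp
      · simp [hij]
    have := congrArg Matrix.det hcong
    rw [← RingHom.mapMatrix_apply, ← RingHom.map_det, Ideal.Quotient.eq_zero_iff_mem.2 hdet, Matrix.det_diagonal,
      Finset.prod_const, ← map_pow] at this
    exact hg (‹Q.IsPrime›.mem_of_pow_mem _ (Ideal.Quotient.eq_zero_iff_mem.1 this.symm))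
  · have h0 : M.mulVec c = 0 := by
      show (LinearMap.toMatrix' (σ ∘ₗ φ)).mulVec c = 0
      rw [LinearMap.toMatrix'_mulVec, LinearMap.comp_apply,
        show φ c = 0 from (Fintype.linearCombination_apply A f c).trans hc, map_zero]
    have h1 := congrArg (Matrix.mulVec M.adjugate) h0
    rw [Matrix.mulVec_mulVec, Matrix.adjugate_mul, Matrix.mulVec_zero, Matrix.smul_mulVec, Matrix.one_mulVec] at h1
    exact congrFun h1 i

end Algebra

section Graded

variable {R : Type u} [CommRing R] {n : ℕ} {P : Type v} [AddCommGroup P] [Module (MvPolynomial (Fin n) R) P]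
  [Module R P] [IsScalarTower R (MvPolynomial (Fin n) R) P]
  (ℳ : (Fin n → ℤ) → Submodule R P) [DirectSum.Decomposition ℳ]
  [SetLike.GradedSMul (MvPolynomial.weightedHomogeneousSubmodule R (fun i : Fin n => (Pi.single i 1 : Fin n → ℤ))) ℳ]

/-- The weight of an exponent. -/
def wt (s : Fin n →₀ ℕ) : Fin n → ℤ := Finsupp.weight (fun i : Fin n => (Pi.single i 1 : Fin n → ℤ)) s

theorem wt_apply (s : Fin n →₀ ℕ) (i : Fin n) : wt s i = s i := by
  simp [wt, Finsupp.weight_apply, Finsupp.sum_fintype, Finset.sum_apply, Pi.single_apply]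

theorem wt_injective : Function.Injective (wt (n := n)) := fun s t h => Finsupp.ext fun i => by
  have := congrFun h i
  rw [wt_apply, wt_apply] at this
  exact_mod_cast this

/-- The monomials of `a` moving degree `d` to degree `e`. -/
def part (a : MvPolynomial (Fin n) R) (d e : Fin n → ℤ) : MvPolynomial (Fin n) R :=
  ∑ s ∈ a.support.filter (fun s => wt s + d = e), monomial s (coeff s a)

theorem part_self (a : MvPolynomial (Fin n) R) (d : Fin n → ℤ) (s : Fin n →₀ ℕ) :
    part a d (wt s + d) = monomial s (coeff s a) := by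
  classical
  rw [part, Finset.sum_eq_single s]
  · intro t ht hne
    exact absurd (wt_injective (add_right_cancel (Finset.mem_filter.1 ht).2)) hne
  · intro hs
    rw [Finset.mem_filter, not_and, mem_support_iff] at hs
    rw [not_not.1 fun h => hs h rfl, monomial_zero]

include ℳ in
theorem decompose_smul (a : MvPolynomial (Fin n) R) {d : Fin n → ℤ} {x : P} (hx : x ∈ ℳ d) (e : Fin n → ℤ) :
    (decompose ℳ (a • x) e : P) = part a d e • x := by
  classical
  conv_lhs => rw [a.as_sum, Finset.sum_smul, decompose_sum]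
  rw [DFinsupp.finsetSum_apply, AddSubmonoidClass.coe_finsetSum, part, Finset.sum_smul, Finset.sum_filter]
  refine Finset.sum_congr rfl fun s _ => ?_
  have hmem : monomial s (coeff s a) • x ∈ ℳ (wt s + d) :=
    SetLike.GradedSMul.smul_mem
      (A := MvPolynomial.weightedHomogeneousSubmodule R (fun i : Fin n => (Pi.single i 1 : Fin n → ℤ))) (B := ℳ)
      (i := wt s) (ai := monomial s (coeff s a)) (isWeightedHomogeneous_monomial _ _ _ rfl) hx
  split_ifs with h
  · rw [← h, decompose_of_mem_same ℳ hmem]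
  · exact decompose_of_mem_ne ℳ hmem h

include ℳ in
theorem decompose_lin {m : ℕ} (c : Fin m → MvPolynomial (Fin n) R) {d : Fin m → Fin n → ℤ} {f : Fin m → P}
    (hf : ∀ i, f i ∈ ℳ (d i)) (e : Fin n → ℤ) :
    (decompose ℳ (∑ i, c i • f i) e : P) = ∑ i, part (c i) (d i) e • f i := by
  rw [decompose_sum, DFinsupp.finsetSum_apply, AddSubmonoidClass.coe_finsetSum]
  exact Finset.sum_congr rfl fun i _ => decompose_smul ℳ (c i) (hf i) e

include ℳ in
theorem decompose_smul_mem (a : MvPolynomial (Fin n) R) {d : Fin n → ℤ} {x : P} (hx : x ∈ ℳ d) :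
    (decompose ℳ (a • x) d : P) = (C (constantCoeff a) : MvPolynomial (Fin n) R) • x := by
  have h := part_self a d 0
  rw [show wt (0 : Fin n →₀ ℕ) = 0 from map_zero _, zero_add] at h
  rw [decompose_smul ℳ a hx, h, constantCoeff_eq, ← C_apply]

include ℳ in
theorem exists_graded_basis [Module.Finite (MvPolynomial (Fin n) R) P] [Module.Projective (MvPolynomial (Fin n) R) P]
    (p : Ideal R) [p.IsPrime] :
    ∃ r : R, r ∉ p ∧ ∃ (m : ℕ) (d : Fin m → (Fin n → ℤ)) (f : Fin m → P), (∀ i, f i ∈ ℳ (d i)) ∧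
      (∀ q : P, ∃ (N : ℕ) (c : Fin m → MvPolynomial (Fin n) R),
        (MvPolynomial.C r : MvPolynomial (Fin n) R) ^ N • q = ∑ i, c i • f i) ∧
      (∀ c : Fin m → MvPolynomial (Fin n) R, ∑ i, c i • f i = 0 →
        ∃ N : ℕ, ∀ i, (MvPolynomial.C r : MvPolynomial (Fin n) R) ^ N * c i = 0) := by
  classical
  obtain ⟨T, hT⟩ := (Module.Finite.fg_top : (⊤ : Submodule (MvPolynomial (Fin n) R) P).FG)
  let G : Finset P := T.biUnion fun q => (decompose ℳ q).support.image fun e => (decompose ℳ q e : P)
  have hG : Submodule.span (MvPolynomial (Fin n) R) (G : Set P) = ⊤ := by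
    rw [eq_top_iff, ← hT, Submodule.span_le]
    intro q hq
    rw [← DirectSum.sum_support_decompose ℳ q]
    refine Submodule.sum_mem _ fun e he => Submodule.subset_span ?_
    exact Finset.mem_biUnion.2 ⟨q, hq, Finset.mem_image.2 ⟨e, he, rfl⟩⟩
  have hhom : ∀ x ∈ G, ∃ e, x ∈ ℳ e := fun x hx => by
    obtain ⟨q, -, hx⟩ := Finset.mem_biUnion.1 hx
    obtain ⟨e, -, rfl⟩ := Finset.mem_image.1 hx
    exact ⟨e, (decompose ℳ q e).2⟩
  obtain ⟨m, f, hfG, ⟨g, hg, hgS⟩, g', hg', hker⟩ :=
    exists_basis_at_prime (p.comap (constantCoeff : MvPolynomial (Fin n) R →+* R)) G hG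
  choose d hd using fun i => hhom (f i) (hfG i)
  have hgen : ∀ q : P, (C (constantCoeff g) : MvPolynomial (Fin n) R) • q ∈ Submodule.span (MvPolynomial (Fin n) R) (Set.range f) := by
    intro q
    rw [← DirectSum.sum_support_decompose ℳ q, Finset.smul_sum]
    refine Submodule.sum_mem _ fun e _ => ?_
    obtain ⟨c, hc⟩ := (Submodule.mem_span_range_iff_exists_fun _).1 (hgS (decompose ℳ q e : P))
    rw [← decompose_smul_mem ℳ g (decompose ℳ q e).2, ← hc, decompose_lin ℳ c hd e]
    exact Submodule.sum_mem _ fun i _ => Submodule.smul_mem _ _ (Submodule.subset_span ⟨i, rfl⟩)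
  have hrel : ∀ c : Fin m → MvPolynomial (Fin n) R, ∑ i, c i • f i = 0 → ∀ i, C (constantCoeff g') * c i = 0 := by
    intro c hc i
    ext s
    have h0 : ∑ j, part (c j) (d j) (wt s + d i) • f j = 0 := by
      rw [← decompose_lin ℳ c hd, hc, decompose_zero]
      rfl
    have h1 := congrArg (coeff s) (hker _ h0 i)
    rw [part_self, coeff_zero, coeff_mul_monomial', if_pos le_rfl, tsub_self] at h1
    rw [coeff_C_mul, coeff_zero, constantCoeff_eq]
    exact h1
  refine ⟨constantCoeff g * constantCoeff g', fun h => ?_, m, d, f, hd, fun q => ?_, fun c hc => ⟨1, fun i => ?_⟩⟩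
  · exact (‹p.IsPrime›.mem_or_mem h).elim hg hg'
  · obtain ⟨c, hc⟩ := (Submodule.mem_span_range_iff_exists_fun _).1 (hgen ((C (constantCoeff g') : MvPolynomial (Fin n) R) • q))
    exact ⟨1, c, by rw [pow_one, map_mul, mul_smul]; exact hc.symm⟩
  · rw [pow_one, map_mul, mul_assoc, hrel c hc i, mul_zero]

end Graded

end Groth.Agent.H23GradedFree
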